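import Mathlib
import Cfsg.Agent.Oval.Str2
import Cfsg.Agent.Proj.Plane
import Cfsg.Agent.Inv.ZStarCor
import Cfsg.Agent.Transfer.ThompsonTransfer

/-! Fusion and transfer: a simple group has no Baer involutions. -/

set_option autoImplicit false

namespace Cfsg.Agent.Oval
open Subgroup Cfsg.Agent.PLocal.Amb
open scoped commutatorElement

variable {G Ω : Type*} [Group G] [MulAction G Ω]

theorem Ax.sub {H : G → Prop} (X : Ax Ω H) (S : Subgroup G) : Ax Ω fun s : S => H s where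
  sq h := Subtype.ext (X.sq h)
  ne h e := X.ne h (congrArg Subtype.val e)
  conj h g := X.conj h g
  mul h1 h2 h3 h4 := X.mul h1 h2 (congrArg Subtype.val h3) fun e => h4 (Subtype.ext e)
  baer h1 h2 h3 h4 := X.baer ⟨congrArg Subtype.val h1.1, fun e => h1.2.1 (Subtype.ext e), h1.2.2⟩
    ⟨congrArg Subtype.val h2.1, fun e => h2.2.1 (Subtype.ext e), h2.2.2⟩
    (congrArg Subtype.val h3) fun e => h4 (Subtype.ext e)
  fix h := X.fix h
  eq h1 h2 h3 h4 h5 h6 h7 := Subtype.ext (X.eq h1 h2 h3 h4 h5 h6 h7)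
  q8 h1 h2 h3 h4 h5 := X.q8 (fun e => h1 (Subtype.ext e)) (congrArg Subtype.val h2)
    (congrArg Subtype.val h3) (congrArg Subtype.val h4) (congrArg Subtype.val h5)

theorem hom_eq_one [IsSimpleGroup G] (hna : ¬ IsMulCommutative G) {A : Type*} [CommGroup A]
    (f : G →* A) (g : G) : f g = 1 := by
  rcases f.normal_ker.eq_bot_or_eq_top with h | h
  · exact absurd ⟨⟨fun a b => (f.ker_eq_bot_iff.1 h) (by rw [map_mul, map_mul, mul_comm])⟩⟩ hna
  · exact (h.ge (mem_top g) : g ∈ f.ker)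

variable [Finite G]

theorem exists_commute_of_odd {B : Subgroup G} (hB : IsPGroup 2 B) {O : Set G}
    (hO : Odd O.ncard) (hinv : ∀ b ∈ B, ∀ x ∈ O, b * x * b⁻¹ ∈ O) :
    ∃ x ∈ O, ∀ b ∈ B, b * x = x * b := by
  letI : MulAction B O :=
    { smul := fun b x => ⟨b * x * (b : G)⁻¹, hinv b b.2 x x.2⟩
      one_smul := fun x => Subtype.ext (by change (1 : B) * x.1 * ((1 : B) : G)⁻¹ = x; simp)
      mul_smul := fun a b x => Subtype.ext (by
        change (a * b : B) * x.1 * ((a * b : B) : G)⁻¹ = a * (b * x.1 * (b : G)⁻¹) * (a : G)⁻¹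
        simp only [coe_mul]; group) }
  obtain ⟨x, hx⟩ := hB.nonempty_fixed_point_of_prime_not_dvd_card O (by
    rw [Nat.card_coe_set_eq]; exact hO.not_two_dvd_nat)
  exact ⟨x, x.2, fun b hb => mul_inv_eq_iff_eq_mul.1 (congrArg Subtype.val (hx ⟨b, hb⟩))⟩

theorem Ax.odd {H : G → Prop} (X : Ax Ω H) {t : G} (ht : H t) : Odd {v | H v}.ncard := by
  have h2 := X.sq ht
  have h1 := Proj.ncard_modEq_fixed (Z := {v | H v}) (f := fun v => t * v * t⁻¹) Nat.prime_two
    (fun v hv => X.conj hv t) fun v _ => by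
      simp [inv_eq_of_mul_eq_one_right h2, mul_assoc, h2, ← mul_assoc t t]
  have h3 := Proj.ncard_modEq_fixed (Z := {v | v ∈ {v | H v} ∧ t * v * t⁻¹ = v} \ {t})
    (f := fun v => t * v) Nat.prime_two (fun v hv => ⟨⟨X.mul ht hv.1.1
      (mul_inv_eq_iff_eq_mul.1 hv.1.2) (Ne.symm hv.2), by rw [mul_assoc t (t * v), hv.1.2]⟩,
      fun e => X.ne hv.1.1 (by simpa using e)⟩) fun v _ => by simp [← mul_assoc t t, h2]
  have h4 := Set.ncard_sdiff_singleton_add_one (s := {v | v ∈ {v | H v} ∧ t * v * t⁻¹ = v}) (a := t)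
    ⟨ht, by simp⟩
  rw [show {x | x ∈ {v | v ∈ {v | H v} ∧ t * v * t⁻¹ = v} \ {t} ∧ t * x = x} = ∅ from
    Set.eq_empty_of_forall_notMem fun v hv => X.ne ht (by simpa using hv.2), Set.ncard_empty] at h3
  unfold Nat.ModEq at *
  rw [Nat.odd_iff]
  omega

variable [IsSimpleGroup G] (hna : ¬ IsMulCommutative G)
include hna

theorem exists_conj (S : Sylow 2 G) {z : G} (hz : z ∈ S) (h2 : z * z = 1) (h1 : z ≠ 1) :
    ∃ g : G, g * z * g⁻¹ ∈ S ∧ g * z * g⁻¹ ≠ z := by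
  by_contra hc
  push Not at hc
  exact hna ⟨⟨Inv.ZStar.comm_of_simple_of_isolated
    ((Inv.isIsolatedInvolution_iff_sylow (Inv.orderOf_two_of_mul_self h2 h1) S hz).2 hc)⟩⟩

theorem mem_of_transfer (S : Sylow 2 G) {N : Subgroup (S : Subgroup G)}
    (hN : ∀ a b : (S : Subgroup G), ⁅a, b⁆ ∈ N) {a : (S : Subgroup G)} (h2 : a * a = 1)
    (h : ∀ (g : G) (hg : g * a * g⁻¹ ∈ (S : Subgroup G)), ⟨_, hg⟩ * a ∈ N) : a ∈ N := by
  have : N.Normal := ⟨fun n hn g => by
    simpa [commutatorElement_def] using N.mul_mem (hN g n) hn⟩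
  letI : CommGroup ((S : Subgroup G) ⧸ N) :=
    { QuotientGroup.Quotient.group N with
      mul_comm := by
        rintro ⟨x⟩ ⟨y⟩
        exact commutatorElement_eq_one_iff_mul_comm.1
          ((map_commutatorElement (QuotientGroup.mk' N) x y).symm.trans
            ((QuotientGroup.eq_one_iff _).2 (hN x y))) }
  have h3 : QuotientGroup.mk' N a * QuotientGroup.mk' N a = 1 := by rw [← map_mul, h2, map_one]
  have h4 : ∀ k : ℕ, QuotientGroup.mk' N a ^ (2 * k) = 1 := fun k => by rw [pow_mul, sq, h3, one_pow]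
  have h5 : ∀ k : ℕ, (a : G) ^ (2 * k) = 1 := fun k => by
    rw [pow_mul, sq, ← coe_mul, h2, coe_one, one_pow]
  have h6 := Transfer.transfer_eq_pow_of_forall (QuotientGroup.mk' N) (a : G)
    (QuotientGroup.mk' N a) fun g k hk => by
      rcases Nat.even_or_odd' k with ⟨j, rfl | rfl⟩
      · rw [h4, ← map_one (QuotientGroup.mk' N)]
        congr 1
        exact Subtype.ext (by simp [h5])
      · have hg : g⁻¹ * a * g⁻¹⁻¹ ∈ (S : Subgroup G) := by simpa [pow_succ, h5] using hk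
        rw [pow_succ (QuotientGroup.mk' N a), h4, one_mul, ← inv_eq_of_mul_eq_one_right h3,
          eq_inv_iff_mul_eq_one, ← map_mul]
        exact (QuotientGroup.eq_one_iff _).2 (by simpa [pow_succ, h5] using h g⁻¹ hg)
  obtain ⟨k, hk⟩ := Transfer.odd_index_sylow S
  rw [hom_eq_one hna, hk, pow_succ, h4, one_mul] at h6
  exact (QuotientGroup.eq_one_iff _).1 h6.symm

omit [IsSimpleGroup G] hna in
theorem exists_conj_into (S : Sylow 2 G) {z y g : G} (hz : ∀ s ∈ S, s * z = z * s)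
    (hg : g * y * g⁻¹ = z) {R : Subgroup G} (hR : IsPGroup 2 R) (h : ∀ s ∈ R, s * y = y * s) :
    ∃ n : G, n * y * n⁻¹ = z ∧ cj(n, R) ≤ S := by
  have : Fact (Nat.Prime 2) := ⟨Nat.prime_two⟩
  obtain ⟨c, hc, h1⟩ := (isSyl_of_le S (L := centralizer {z})
    fun s hs => mem_centralizer_singleton_iff.2 (hz s hs)).exists_cj_le (R := cj(g, R))
    (hR.map _) fun x hx => by
      obtain ⟨s, hs, rfl⟩ := mem_cj_iff_exists.1 hx
      rw [mem_centralizer_singleton_iff, ← hg, conj_mul, conj_mul, h s hs]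
  refine ⟨c * g, ?_, fun x hx => h1 ?_⟩
  · rw [mul_inv_rev, ← mul_assoc, mul_assoc c, mul_assoc c, hg,
      mem_centralizer_singleton_iff.1 hc, mul_inv_cancel_right]
  · rw [mem_cj] at hx
    rw [mem_cj, mem_cj]
    simpa [mul_assoc] using hx

/-- A simple group has no Baer involutions. -/
theorem Ax.not_br {H : G → Prop} (X : Ax Ω H) (a : G) : ¬ Br H a := fun ha => by
  have : Fact (Nat.Prime 2) := ⟨Nat.prime_two⟩
  obtain ⟨S, hS⟩ := (Inv.isPGroup_zpowers_of_orderOf_two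
    (Inv.orderOf_two_of_mul_self ha.1 ha.2.1)).exists_le_sylow
  have haS : a ∈ S := hS (mem_zpowers a)
  obtain ⟨t₀, h0⟩ : ∃ t, H t := by
    by_contra hc
    refine hna ⟨⟨Inv.ZStar.comm_of_simple_of_isolated
      ⟨Inv.orderOf_two_of_mul_self ha.1 ha.2.1, fun g hg => by_contra fun hne => ?_⟩⟩⟩
    exact hc ⟨_, X.baer ha (X.br_conj ha g) hg (Ne.symm hne)⟩
  obtain ⟨t, ht, hc⟩ := exists_commute_of_odd S.isPGroup' (X.odd h0) fun b _ x hx => X.conj hx b
  have htS : t ∈ S := (isSyl_top S).le_of_normalizes (Inv.isPGroup_zpowers_of_orderOf_two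
    (Inv.orderOf_two_of_mul_self (X.sq ht) (X.ne ht))) le_top (zpowers_le.2
      (centralizer_le_normalizer _ hc)) (mem_zpowers t)
  obtain ⟨g, h1, h2⟩ := exists_conj hna S htS (X.sq ht) (X.ne ht)
  obtain ⟨A, B, hAB, h3⟩ := X.fix ht
  obtain ⟨A', B', hAB', h4⟩ := X.fix (X.conj ht g)
  have c : Cf (fun s : (S : Subgroup G) => H s) ⟨t, htS⟩ ⟨_, h1⟩ A B A' B' :=
    ⟨X.sub _, S.isPGroup', ht, X.conj ht g, fun e => h2 (congrArg Subtype.val e),
      fun s => Subtype.ext (hc s s.2), hAB, hAB', h3, h4⟩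
  have hbr : ∀ {b : G} (hb : b ∈ (S : Subgroup G)), Br H b →
      Br (fun s : (S : Subgroup G) => H s) ⟨b, hb⟩ := fun hb h =>
    ⟨Subtype.ext h.1, fun e => h.2.1 (congrArg Subtype.val e), h.2.2⟩
  have ha' := hbr haS ha
  rcases c.struct with ⟨D, h5, h6, Q, h7⟩ | ⟨ρ, h5, h6, h7, h8, h9⟩
  · by_cases h8 : ∀ b, Br (fun s : (S : Subgroup G) => H s) b → (Q b ↔ Q ⟨a, haS⟩)
    · exact h6 _ ha' (mem_of_transfer hna S h5 ha'.1 fun g hg =>
        h7 _ _ (hbr hg (X.br_conj ha g)) ha' (h8 _ (hbr hg (X.br_conj ha g))))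
    push Not at h8
    obtain ⟨b, hb, h8⟩ := h8
    have hD : D.Normal := ⟨fun n hn g => by
      simpa [commutatorElement_def] using D.mul_mem (h5 g n) hn⟩
    have hi := inv_eq_of_mul_eq_one_right ha'.1
    rcases mem_of_transfer hna S (N := ext2 D (⟨a, haS⟩ * b) (by
      simpa [commutatorElement_def, hi, inv_eq_of_mul_eq_one_right hb.1, mul_assoc]
        using h5 ⟨a, haS⟩ b) fun k hk => hD.conj_mem k hk _) (fun x y => Or.inl (h5 x y)) ha'.1
      (fun g hg => by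
        have h9 := hbr hg (X.br_conj ha g)
        by_cases h10 : Q ⟨_, hg⟩ ↔ Q ⟨a, haS⟩
        · exact Or.inl (h7 _ _ h9 ha' h10)
        · exact Or.inr (by
            simpa [hi, mul_assoc] using hD.conj_mem _ (h7 _ _ hb h9 (by tauto)) ⟨a, haS⟩)) with h | h
    · exact h6 _ ha' h
    · exact h6 _ (c.ax.br_conj hb ⟨a, haS⟩) (by rwa [hi])
  · obtain ⟨ρ, hρ⟩ := ρ
    have h5' : Br H ρ := ⟨congrArg Subtype.val h5.1, fun e => h5.2.1 (Subtype.ext e), h5.2.2⟩
    have h6' : ∀ s ∈ S, s * ρ = ρ * s := fun s hs => congrArg Subtype.val (h6 ⟨s, hs⟩)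
    have key : ∀ g : G, g * (t * ρ) * g⁻¹ ≠ ρ := fun g hg => by
      obtain ⟨n, hn, h10⟩ := exists_conj_into S h6' hg S.isPGroup' fun s hs => by
        rw [← mul_assoc, hc s hs, mul_assoc, h6' s hs, mul_assoc]
      have h11 := eq_of_le_of_card_ge h10 (card_cj _ _).ge
      have h12 : n * t * n⁻¹ = t := congrArg Subtype.val
        (h8 ⟨_, h10 (conj_mem_cj n htS)⟩ (X.conj ht n) fun s => Subtype.ext (by
          obtain ⟨s, hs, e⟩ := mem_cj_iff_exists.1 (h11.ge s.2)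
          change _ * (n * t * n⁻¹) = n * t * n⁻¹ * _
          rw [← e, conj_mul, conj_mul, hc s hs]))
      have h13 : n * ρ * n⁻¹ = t * ρ := by
        rw [← conj_mul, h12] at hn
        rw [eq_inv_mul_iff_mul_eq.2 hn, inv_eq_of_mul_eq_one_right (X.sq ht)]
      have h14 : ∀ k : ℕ, n ^ (2 * k) * ρ * (n ^ (2 * k))⁻¹ = ρ := fun k => by
        rw [mul_inv_eq_iff_eq_mul, pow_mul]
        refine (Commute.pow_left ?_ k).eq
        change n ^ 2 * ρ = ρ * n ^ 2
        rw [← mul_inv_eq_iff_eq_mul]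
        calc _ = n * (n * ρ * n⁻¹) * n⁻¹ := by rw [pow_two]; group
          _ = ρ := by rw [h13, hn]
      have hnN : n ∈ 𝐍[(S : Subgroup G)] := mem_normalizer_of_cj_le h10
      obtain ⟨k, hk⟩ := Nat.odd_iff.2 (Nat.two_dvd_ne_zero.1
        ((isSyl_of_le S le_normalizer).not_dvd_relIndex))
      have h15 : n ^ (2 * k + 1) ∈ (S : Subgroup G) := by
        have := pow_index_mem (H := (S : Subgroup G).subgroupOf 𝐍[(S : Subgroup G)]) ⟨n, hnN⟩
        rw [← hk]; exact this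
      have h16 := mul_inv_eq_iff_eq_mul.2 (h6' _ h15)
      rw [pow_succ', mul_inv_rev, ← mul_assoc, mul_assoc n, mul_assoc n, h14, h13] at h16
      exact X.ne ht (by simpa using h16)
    obtain ⟨g, h10, h11⟩ := exists_conj hna S hρ h5'.1 h5'.2.1
    have h12 := X.baer (X.br_conj h5' g) h5' (h6' _ h10) h11
    have h13 : g⁻¹ * (g * ρ * g⁻¹ * ρ * ρ) * g⁻¹⁻¹ = ρ := by rw [mul_assoc _ ρ, h5'.1]; group
    have h14 := (S : Subgroup G).mul_mem h10 hρ
    generalize g * ρ * g⁻¹ * ρ = v at h12 h13 h14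
    by_cases hv : v = t
    · exact key _ (hv ▸ h13)
    obtain ⟨⟨b, hb⟩, h15, h16⟩ := h7 ⟨v, h14⟩ h12 fun e => hv (congrArg Subtype.val e)
    have h17 : b * b = ρ := congrArg Subtype.val h15
    have h18 : b * v = v * b := congrArg Subtype.val h16
    obtain ⟨n, h19, h20⟩ := exists_conj_into S h6' h13 (S.isPGroup'.to_le (zpowers_le.2 hb)) (by
      rintro _ ⟨k, rfl⟩
      exact ((show Commute b v from h18).mul_right (h6' b hb)).zpow_left k)
    have h21 : n * b * n⁻¹ * (n * b * n⁻¹) * ρ = n * v * n⁻¹ := by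
      rw [conj_mul, h17]
      nth_rewrite 2 [← h19]
      rw [conj_mul, h6' v h14, ← mul_assoc ρ, h5'.1, one_mul]
    have h22 : n * b * n⁻¹ * (n * b * n⁻¹) * ρ = t := congrArg Subtype.val
      (h9 ⟨_, h20 (conj_mem_cj n (mem_zpowers b))⟩ (h21 ▸ X.conj h12 n :))
    rw [conj_mul, h17] at h22
    exact key n⁻¹ (by rw [← h22, mul_assoc _ ρ, h5'.1]; group)

end Cfsg.Agent.Oval
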